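import Mathlib
import Cfsg.Agent.H17.PermMod

/-! Simple modules of `SL₂(q)` in defining characteristic: weights of semisimple elements. -/

set_option autoImplicit false

open Finset Module Matrix Polynomial
open scoped MatrixGroups

namespace H0.L2

/-- exponents with binomial coefficient prime to `p` -/
def Bs (p a : ℕ) : Finset ℕ := (range (a + 1)).filter fun i => ¬ p ∣ a.choose i

variable {F k : Type*} [Field F] [Field k] (ι : F →+* k)

/-- right action on row vectors -/
def act (g : SL(2, F)) (v : F × F) : F × F :=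
  (v.1 * g 0 0 + v.2 * g 1 0, v.1 * g 0 1 + v.2 * g 1 1)

/-- first row -/
def row (g : SL(2, F)) : F × F := (g 0 0, g 0 1)

/-- upper unitriangular -/
def upp (t : F) : SL(2, F) := ⟨!![1, t; 0, 1], by simp⟩

/-- lower unitriangular -/
def low (t : F) : SL(2, F) := ⟨!![1, 0; t, 1], by simp⟩

/-- diagonal -/
def dia (c : Fˣ) : SL(2, F) := ⟨!![c.1, 0; 0, (c⁻¹).1], by simp⟩

/-- Weyl element -/
def wey : SL(2, F) := ⟨!![0, 1; -1, 0], by simp⟩

theorem sl_mul (g h : SL(2, F)) (i j : Fin 2) : (g * h) i j = g i 0 * h 0 j + g i 1 * h 1 j := by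
  simp [mul_apply, Fin.sum_univ_two]

theorem sl_ext {g h : SL(2, F)} (a : g 0 0 = h 0 0) (b : g 0 1 = h 0 1) (c : g 1 0 = h 1 0)
    (d : g 1 1 = h 1 1) : g = h := by
  ext i j
  fin_cases i <;> fin_cases j <;> assumption

theorem sl_det (g : SL(2, F)) : g 0 0 * g 1 1 - g 0 1 * g 1 0 = 1 :=
  (det_fin_two _).symm.trans g.det_coe

theorem row_mul (h g : SL(2, F)) : row (h * g) = act g (row h) := by simp only [row, act, sl_mul]

theorem act_mul (h g : SL(2, F)) (v : F × F) : act (h * g) v = act g (act h v) := by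
  simp only [act, sl_mul]
  ext <;> ring

theorem ex_row {v : F × F} (h : v ≠ 0) : ∃ g, row g = v := by
  by_cases a : v.1 = 0
  · have b : v.2 ≠ 0 := fun b => h (Prod.ext a b)
    exact ⟨⟨!![0, v.2; -v.2⁻¹, 0], by simp [b]⟩, Prod.ext a.symm rfl⟩
  · exact ⟨⟨!![v.1, v.2; 0, v.1⁻¹], by simp [a]⟩, rfl⟩

theorem row_ne (g : SL(2, F)) : row g ≠ 0 := fun e => by
  have := sl_det g
  rw [show g 0 0 = 0 from congrArg Prod.fst e, show g 0 1 = 0 from congrArg Prod.snd e] at this
  simp at this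

theorem row_eq {g h : SL(2, F)} (e : row g = row h) : ∃ t, g = low t * h := by
  have a : g 0 0 = h 0 0 := congrArg Prod.fst e
  have b : g 0 1 = h 0 1 := congrArg Prod.snd e
  have c := sl_det g
  have d := sl_det h
  rw [a, b] at c
  refine ⟨g 1 0 * h 1 1 - g 1 1 * h 1 0, sl_ext ?_ ?_ ?_ ?_⟩ <;> rw [sl_mul] <;> simp [low, a, b]
  · linear_combination h 1 0 * c - g 1 0 * d
  · linear_combination h 1 1 * c - g 1 1 * d

theorem dia_mul (c d : Fˣ) : dia (c * d) = dia c * dia d :=
  sl_ext (by rw [sl_mul]; simp [dia]) (by rw [sl_mul]; simp [dia]) (by rw [sl_mul]; simp [dia])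
    (by rw [sl_mul]; simp [dia, mul_comm])

/-- the diagonal torus -/
def diaH : Fˣ →* SL(2, F) := MonoidHom.mk' dia dia_mul

/-- monomials in two linear forms -/
def mon (a : ℕ) (P : Matrix (Fin 2) (Fin 2) k) (i : ℕ) (v : F × F) : k :=
  (ι v.1 * P 0 0 + ι v.2 * P 1 0) ^ i * (ι v.1 * P 0 1 + ι v.2 * P 1 1) ^ (a - i)

/-- their span -/
def Sp (p a : ℕ) (P : Matrix (Fin 2) (Fin 2) k) : Submodule k (F × F → k) :=
  Submodule.span k (Set.range fun i : Bs p a => mon ι a P i)

variable {p : ℕ} [CharP k p] {a : ℕ}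

theorem pow_eq (P : Matrix (Fin 2) (Fin 2) k) (α γ : k) :
    (fun v : F × F => (α * (ι v.1 * P 0 0 + ι v.2 * P 1 0) + γ * (ι v.1 * P 0 1 + ι v.2 * P 1 1)) ^ a)
      = ∑ i ∈ range (a + 1), (α ^ i * γ ^ (a - i) * a.choose i) • mon ι a P i := by
  funext v
  simp only [add_pow (α * _), Finset.sum_apply, Pi.smul_apply, mon, smul_eq_mul, mul_pow]
  exact sum_congr rfl fun i _ => by ring

theorem pow_mem (P : Matrix (Fin 2) (Fin 2) k) (α γ : k) :
    (fun v : F × F => (α * (ι v.1 * P 0 0 + ι v.2 * P 1 0) + γ * (ι v.1 * P 0 1 + ι v.2 * P 1 1)) ^ a)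
      ∈ Sp ι p a P := by
  rw [pow_eq]
  refine sum_mem fun i hi => ?_
  by_cases h : p ∣ a.choose i
  · rw [(CharP.cast_eq_zero_iff k p _).2 h, mul_zero, zero_smul]; exact zero_mem _
  · exact Submodule.smul_mem _ _ (Submodule.subset_span ⟨⟨i, mem_filter.2 ⟨hi, h⟩⟩, rfl⟩)

variable [Fintype F]

omit [CharP k p] in
theorem coeff_zero (ha : a < Fintype.card F) {c : ℕ → k}
    (h : ∀ x : F, ∑ i ∈ range (a + 1), c i * ι x ^ i = 0) {i : ℕ} (hi : i < a + 1) : c i = 0 := by
  have := eq_zero_of_natDegree_lt_card_of_eval_eq_zero (∑ i ∈ range (a + 1), monomial i (c i))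
    ι.injective (fun x => by simpa [eval_finset_sum] using h x)
    ((natDegree_sum_le_of_forall_le _ _ fun i hi =>
      (natDegree_monomial_le _).trans (Nat.lt_succ_iff.1 (mem_range.1 hi))).trans_lt ha)
  simpa [coeff_monomial, hi] using congrArg (coeff · i) this

theorem sp_le (ha : a < Fintype.card F) {P : Matrix (Fin 2) (Fin 2) k} {N : Submodule k (F × F → k)}
    (h : ∀ γ : F, (fun v : F × F => (1 * (ι v.1 * P 0 0 + ι v.2 * P 1 0) +
      ι γ * (ι v.1 * P 0 1 + ι v.2 * P 1 1)) ^ a) ∈ N) : Sp ι p a P ≤ N := by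
  rw [Sp, Submodule.span_le]
  rintro _ ⟨⟨i, hi⟩, rfl⟩
  obtain ⟨h1, h2⟩ := mem_filter.1 hi
  rw [SetLike.mem_coe, ← Subspace.forall_mem_dualAnnihilator_apply_eq_zero_iff]
  intro ψ hψ
  have := coeff_zero ι ha (c := fun j => a.choose (a - j) * ψ (mon ι a P (a - j))) (fun x => by
    rw [← (Submodule.mem_dualAnnihilator ψ).1 hψ _ (h x), pow_eq, map_sum, ← sum_range_reflect]
    refine sum_congr rfl fun j hj => ?_
    have := mem_range.1 hj
    rw [map_smul, show a - (a + 1 - 1 - j) = j by omega, show a + 1 - 1 - j = a - j by omega,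
      smul_eq_mul]
    ring) (i := a - i) (by omega)
  rw [show a - (a - i) = i by have := mem_range.1 h1; omega] at this
  exact (mul_eq_zero.1 this).resolve_left fun e => h2 ((CharP.cast_eq_zero_iff k p _).1 e)

theorem sp_eq (ha : a < Fintype.card F) {P : Matrix (Fin 2) (Fin 2) k} (h : P.det ≠ 0) :
    Sp ι p a P = Sp ι p a 1 := by
  rw [det_fin_two] at h
  apply le_antisymm
  · refine sp_le ι ha fun γ => ?_
    convert pow_mem ι (p := p) (a := a) 1 (P 0 0 + ι γ * P 0 1) (P 1 0 + ι γ * P 1 1) using 3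
    simp; ring
  · refine sp_le ι ha fun γ => ?_
    obtain ⟨e, he⟩ : ∃ e, e * (P 0 0 * P 1 1 - P 0 1 * P 1 0) = 1 := ⟨_, inv_mul_cancel₀ h⟩
    convert pow_mem ι (p := p) (a := a) P ((P 1 1 - ι γ * P 0 1) * e)
      ((ι γ * P 0 0 - P 1 0) * e) using 3 with v
    simp only [one_apply_eq, one_apply_ne (zero_ne_one : (0 : Fin 2) ≠ 1),
      one_apply_ne (one_ne_zero : (1 : Fin 2) ≠ 0)]
    linear_combination (-ι v.1 - ι γ * ι v.2) * he

theorem finrank_sp (ha : a < Fintype.card F) : finrank k (Sp ι p a 1) = Fintype.card (Bs p a) := by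
  classical
  refine finrank_span_eq_card (Fintype.linearIndependent_iff.2 fun c e i => ?_)
  have := coeff_zero ι ha (c := fun j => if h : j ∈ Bs p a then c ⟨j, h⟩ else 0) (fun x => by
    have := congrFun e (x, 1)
    simp only [Finset.sum_apply, Pi.smul_apply, mon, smul_eq_mul, Pi.zero_apply] at this
    refine Eq.trans ?_ this
    rw [← sum_subset (s₁ := Bs p a) (filter_subset (fun i => ¬ p ∣ a.choose i) _) fun j _ hj => by
      rw [dif_neg hj, zero_mul], ← sum_coe_sort]
    exact sum_congr rfl fun j _ => by simp [j.2]) (mem_range.1 (mem_filter.1 i.2).1)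
  simpa [i.2] using this

variable {S : Type*} [AddCommGroup S] [Module k S] (ρ : SL(2, F) →* End k S)

omit [Fintype F] [CharP k p] in
theorem ex_Φ {l : Dual k S} (hl : ∀ t s, l (ρ (low t) s) = l s) : ∃ Φ : S →ₗ[k] (F × F → k),
    (∀ g s, Φ s (row g) = l (ρ g s)) ∧ (∀ s, Φ s 0 = 0) ∧ ∀ g s v, Φ (ρ g s) v = Φ s (act g v) := by
  classical
  let Φ : S →ₗ[k] (F × F → k) :=
    LinearMap.pi fun v => if h : ∃ g, row g = v then l ∘ₗ ρ h.choose else 0
  have h1 : ∀ g s, Φ s (row g) = l (ρ g s) := fun g s => by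
    have h : ∃ g', row g' = row g := ⟨g, rfl⟩
    obtain ⟨t, ht⟩ := row_eq h.choose_spec
    simp only [Φ, LinearMap.pi_apply, dif_pos h, LinearMap.comp_apply]
    rw [ht, map_mul, End.mul_apply, hl]
  have h2 : ∀ s, Φ s 0 = 0 := fun s => by
    simp only [Φ, LinearMap.pi_apply]
    rw [dif_neg fun ⟨g, e⟩ => row_ne g e, LinearMap.zero_apply]
  refine ⟨Φ, h1, h2, fun g s v => ?_⟩
  by_cases h : v = 0
  · rw [h, h2, show act g 0 = 0 by simp [act], h2]
  · obtain ⟨x, rfl⟩ := ex_row h
    rw [← row_mul, h1, h1, map_mul, End.mul_apply]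

omit [Fintype F] in
include ι in
theorem fix_add [Finite F] [Fact p.Prime] {X : Type*} [AddCommGroup X] [Module k X] [Nontrivial X]
    (u : F → End k X) (h0 : u 0 = 1) (h : ∀ s t, u (s + t) = u s * u t) :
    ∃ v ≠ 0, ∀ t, u t v = v := by
  have := ι.charP ι.injective p
  obtain ⟨v, -, a, b⟩ := H17.exists_fixed_vec (p := p) (G := Multiplicative F)
    ⟨⟨fun t => u t.toAdd, h0⟩, fun s t => h _ _⟩ ⊤
    (fun g => ⟨1, Subtype.ext (Multiplicative.toAdd.injective (by simp))⟩) ⊤ (by simp) top_ne_bot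
  exact ⟨v, a, fun t => b (Multiplicative.ofAdd t) trivial⟩

variable [IsAlgClosed k] [FiniteDimensional k S] [Nontrivial S] [Fact p.Prime]

include p in
theorem ex_l : ∃ l : Dual k S, l ≠ 0 ∧ (∀ t s, l (ρ (low t) s) = l s) ∧ ∃ a, 0 < a ∧
    a < Fintype.card F ∧ ∀ (c : Fˣ) s, l (ρ (dia c) s) = ι c ^ a * l s := by
  classical
  obtain ⟨l0, a0, b0⟩ := fix_add ι (p := p) (X := Dual k S) (fun t => (ρ (low t)).dualMap)
    (by rw [show low (0 : F) = 1 from sl_ext rfl rfl rfl rfl, map_one]; rfl) fun s t => by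
      rw [show low (s + t) = low t * low s from sl_ext (by rw [sl_mul]; simp [low])
        (by rw [sl_mul]; simp [low]) (by rw [sl_mul]; simp [low, add_comm]) (by rw [sl_mul]; simp [low]), map_mul]
      rfl
  let L : Submodule k (Dual k S) :=
    { carrier := {l | ∀ t s, l (ρ (low t) s) = l s}
      add_mem' := fun h h' t s => by simp [h t s, h' t s]
      zero_mem' := fun t s => rfl
      smul_mem' := fun c l h t s => by simp [h t s] }
  have : Nontrivial L := ⟨⟨l0, fun t s => congrArg (· s) (b0 t)⟩, 0, fun e => a0 (congrArg Subtype.val e)⟩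
  obtain ⟨c, hc⟩ := IsCyclic.exists_generator (α := Fˣ)
  have hL : ∀ l ∈ L, (ρ (dia c)).dualMap l ∈ L := fun l h t s => by
    have : dia c * low t = low (t * (c⁻¹).1 * (c⁻¹).1) * dia c :=
      sl_ext (by rw [sl_mul, sl_mul]; simp [low, dia]) (by rw [sl_mul, sl_mul]; simp [low, dia])
        (by rw [sl_mul, sl_mul]; simp [low, dia, mul_comm]) (by rw [sl_mul, sl_mul]; simp [low, dia])
    rw [LinearMap.dualMap_apply, LinearMap.dualMap_apply, ← End.mul_apply, ← map_mul, this,
      map_mul, End.mul_apply, h]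
  let T : End k L := ((ρ (dia c)).dualMap).restrict hL
  obtain ⟨μ, hμ⟩ := End.exists_eigenvalue (K := k) (V := L) T
  obtain ⟨l, hl⟩ := hμ.exists_hasEigenvector
  have l0 : l.1 ≠ 0 := fun e => hl.2 (Subtype.ext e)
  have h1 : ∀ n : ℕ, ∀ s, l.1 (ρ (diaH (c ^ n)) s) = μ ^ n * l.1 s := fun n => by
    induction n with
    | zero => simp
    | succ n ih =>
      intro s
      have : l.1 (ρ (dia c) s) = μ * l.1 s :=
        congrArg (fun x : L => x.1 s) hl.apply_eq_smul
      rw [pow_succ, map_mul, map_mul, End.mul_apply, ih, pow_succ, mul_assoc, ← this]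
      rfl
  have q1 : 1 < Fintype.card F := Fintype.one_lt_card
  have oc : orderOf c = Fintype.card F - 1 := by
    rw [orderOf_eq_card_of_forall_mem_zpowers hc, Nat.card_eq_fintype_card, Fintype.card_units]
  have h2 : IsPrimitiveRoot (ι c) (Fintype.card F - 1) :=
    (IsPrimitiveRoot.coe_units_iff.2 (oc ▸ IsPrimitiveRoot.orderOf c)).map_of_injective ι.injective
  obtain ⟨s, hs⟩ := DFunLike.ne_iff.1 l0
  have h3 := h1 (orderOf c) s
  rw [pow_orderOf_eq_one, map_one, map_one, End.one_apply, oc, right_eq_mul₀ hs] at h3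
  have := NeZero.mk (show Fintype.card F - 1 ≠ 0 by omega)
  obtain ⟨b, hb, rfl⟩ := h2.eq_pow_of_pow_eq_one h3
  refine ⟨l, l0, l.2, if b = 0 then Fintype.card F - 1 else b, by split_ifs <;> omega,
    by split_ifs <;> omega, fun d s => ?_⟩
  obtain ⟨n, rfl⟩ := mem_powers_iff_mem_zpowers.2 (hc d)
  refine (h1 n s).trans ?_
  rw [Units.val_pow_eq_pow_val, map_pow, ← pow_mul, ← pow_mul, mul_comm n]
  split_ifs with e
  · simp [e, pow_mul, h2.pow_eq_one]
  · rfl

theorem classify (hS : ∀ N : Submodule k S, (∀ g, ∀ v ∈ N, ρ g v ∈ N) → N ≠ ⊥ → N = ⊤) :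
    ∃ a < Fintype.card F, ∀ (g : SL(2, F)) (P : Matrix (Fin 2) (Fin 2) k) (x y : k), P.det ≠ 0 →
      g.1.map ι * P = P * diagonal ![x, y] →
      ∃ b : Basis (Bs p a) k S, ∀ i, ρ g (b i) = (x ^ i.1 * y ^ (a - i.1)) • b i := by
  classical
  obtain ⟨l, l0, hl, a, a0, ha, hc⟩ := ex_l ι ρ (p := p)
  obtain ⟨Φ, h1, h2, h3⟩ := ex_Φ ρ hl
  have inj : Function.Injective Φ := by
    rw [← LinearMap.ker_eq_bot]
    by_contra h
    have := hS _ (fun g v hv => funext fun w => (h3 g v w).trans (congrFun hv _)) h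
    exact l0 (LinearMap.ext fun s => by
      simpa using (h1 1 s).symm.trans (congrFun (this.ge (Submodule.mem_top (x := s))) _))
  obtain ⟨s0, n0, hs0⟩ := fix_add ι (p := p) (X := S) (fun t => ρ (upp t))
    (by rw [show upp (0 : F) = 1 from sl_ext rfl rfl rfl rfl, map_one]) fun s t => by
      rw [show upp (s + t) = upp s * upp t from sl_ext (by rw [sl_mul]; simp [upp])
        (by rw [sl_mul]; simp [upp, add_comm]) (by rw [sl_mul]; simp [upp]) (by rw [sl_mul]; simp [upp]), map_mul]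
  have hom : ∀ (c : F) v, Φ s0 (c * v.1, c * v.2) = ι c ^ a * Φ s0 v := fun c v => by
    by_cases c0 : c = 0
    · simpa [c0, a0.ne'] using show Φ s0 (0, 0) = 0 from h2 s0
    by_cases h : v = 0
    · simpa [h, h2] using show Φ s0 (0, 0) = 0 from h2 s0
    obtain ⟨g, rfl⟩ := ex_row h
    rw [h1, ← Units.val_mk0 c0, ← hc, ← End.mul_apply, ← map_mul, ← h1]
    simp only [row, sl_mul]
    simp [dia]
  have hf : ∀ x y, Φ s0 (x, y) = if x = 0 then ι y ^ a * Φ s0 (0, 1) else ι x ^ a * Φ s0 (1, 0) :=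
    fun x y => by
      split_ifs with e
      · rw [← hom, e]; simp
      · rw [← hom, ← hs0 (-y / x), h3, hs0]
        simp [act, upp, mul_div_cancel₀ _ e]
  have main : (∃ s, Φ s = fun v => ι v.1 ^ a) ∨ ∀ g, ρ g s0 = s0 := by
    have red : ∀ s c, c ≠ 0 → (∀ x y, Φ s (x, y) = ι x ^ a * c) → ∃ s, Φ s = fun v => ι v.1 ^ a :=
      fun s c c0 e => ⟨c⁻¹ • s, funext fun v => by
        rw [map_smul, Pi.smul_apply, e, smul_eq_mul]; field_simp⟩
    by_cases c2 : Φ s0 (0, 1) = 0
    · refine .inl (red s0 (Φ s0 (1, 0)) (fun c1 => n0 (inj (funext fun v => ?_))) fun x y => ?_)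
      · simp [hf v.1 v.2, c1, c2]
      · rw [hf]
        split_ifs with e
        · simp [e, c2, a0.ne']
        · rfl
    have h4 : ∀ x y, Φ (∑ t, ρ (upp t * wey) s0) (x, y) = if x = 0 then 0 else
        ι x ^ a * Φ s0 (0, 1) + ι (∑ z : F, z ^ a) * Φ s0 (1, 0) := fun x y => by
      have := ι.charP ι.injective p
      simp only [map_sum, Finset.sum_apply, h3, act_mul]
      split_ifs with e
      · have : (Fintype.card F : k) = 0 := by
          rw [← map_natCast ι, FiniteField.cast_card_eq_zero, map_zero]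
        simp [act, upp, e, this]
      · rw [Fintype.sum_equiv ((Equiv.mulLeft₀ x e).trans ((Equiv.addRight y).trans (Equiv.neg F))) _
          (fun z => Φ s0 (z, x)) fun t => by simp [act, upp, wey]]
        simp only [hf _ x, sum_mul]
        rw [← add_sum_erase _ _ (mem_univ 0), ← add_sum_erase _ _ (mem_univ 0), if_pos rfl,
          sum_congr rfl fun z hz => if_neg (ne_of_mem_erase hz)]
        simp [a0.ne']
    rcases (Nat.le_sub_one_of_lt ha).lt_or_eq with e | e
    · refine .inl (red (∑ t, ρ (upp t * wey) s0) _ c2 fun x y => ?_)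
      rw [h4, FiniteField.sum_pow_lt_card_sub_one _ _ e]
      split_ifs with x0 <;> simp [x0, a0.ne']
    have h5 : ∀ x : F, x ≠ 0 → ι x ^ a = 1 := fun x hx => by
      rw [← map_pow, e, FiniteField.pow_card_sub_one_eq_one x hx, map_one]
    have h6 : ι (∑ z : F, z ^ a) = -1 := by
      have : (Fintype.card F : k) = 0 := by
        rw [← map_natCast ι, FiniteField.cast_card_eq_zero, map_zero]
      rw [map_sum, ← add_sum_erase _ _ (mem_univ 0),
        sum_congr rfl fun z hz => (map_pow ι _ _).trans (h5 z (ne_of_mem_erase hz))]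
      simp [a0.ne', card_erase_of_mem, Nat.cast_sub Fintype.card_pos, this]
    by_cases c1 : Φ s0 (0, 1) - Φ s0 (1, 0) = 0
    · have h7 : ∀ g, Φ s0 (row g) = Φ s0 (1, 0) := fun g => by
        rw [row, hf]
        split_ifs with x0
        · rw [h5 (g 0 1) fun y0 => row_ne g (Prod.ext x0 y0), one_mul, sub_eq_zero.1 c1]
        · rw [h5 _ x0, one_mul]
      refine .inr fun g => inj (funext fun v => ?_)
      by_cases h : v = 0
      · rw [h, h2, h2]
      · obtain ⟨x, rfl⟩ := ex_row h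
        rw [h3, ← row_mul, h7, h7]
    · refine .inl (red (∑ t, ρ (upp t * wey) s0) _ c1 fun x y => ?_)
      rw [h4, h6]
      split_ifs with x0
      · simp [x0, a0.ne']
      · rw [h5 x x0]; ring
  rcases main with ⟨s, hs⟩ | hs
  swap
  · have top := hS (k ∙ s0) (fun g v hv => by
      obtain ⟨c, rfl⟩ := Submodule.mem_span_singleton.1 hv
      rwa [map_smul, hs]) (by simpa using n0)
    have hB : Bs p 0 = {0} := by
      simp [Bs, filter_singleton, (Fact.out : p.Prime).ne_one]
    refine ⟨0, Fintype.card_pos, fun g P x y _ _ => ⟨basisOfTopLeSpanOfCardEqFinrank (fun _ => s0)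
      (top.ge.trans (Submodule.span_mono (by
        rintro _ rfl
        exact ⟨⟨0, by simp [hB]⟩, rfl⟩))) ?_, fun i => ?_⟩⟩
    · rw [← finrank_top, ← top, finrank_span_singleton n0]
      simp [hB]
    · have : i.1 = 0 := by simpa [hB] using i.2
      simp [this, hs]
  have hact : ∀ (g : SL(2, F)) P i v, mon ι a P i (act g v) = mon ι a (g.1.map ι * P) i v :=
    fun g P i v => by
      simp only [mon, act, mul_apply, Fin.sum_univ_two, map_apply, map_add, map_mul]
      congr 2 <;> ring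
  have R : LinearMap.range Φ = Sp ι p a 1 := by
    apply le_antisymm
    · rw [LinearMap.range_le_iff_comap]
      refine hS _ (fun g v hv => ?_) ((Submodule.ne_bot_iff _).2 ⟨s, ?_, fun e => ?_⟩)
      · have : (Sp ι p a 1).map (LinearMap.funLeft k k (act g)) ≤ Sp ι p a 1 := by
          rw [← sp_eq ι ha (P := g.1.map ι * 1) (by
            rw [mul_one, ← RingHom.mapMatrix_apply, ← RingHom.map_det, g.2]; simp)]
          conv_lhs => rw [sp_eq ι ha (P := g.1.map ι * 1) (by
            rw [mul_one, ← RingHom.mapMatrix_apply, ← RingHom.map_det, g.2]; simp)]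
          rw [Sp, Submodule.map_span_le]
          rintro _ ⟨i, rfl⟩
          exact Submodule.subset_span ⟨i, funext fun v => (hact g 1 i v).symm⟩
        exact this ⟨_, hv, funext fun w => (h3 g v w).symm⟩
      · rw [Submodule.mem_comap, hs]
        convert pow_mem ι (p := p) (a := a) 1 1 0 using 3
        simp
      · simpa [e] using congrFun hs (1, 0)
    · refine sp_le ι ha fun γ => ⟨ρ (low γ) s, funext fun v => ?_⟩
      rw [h3, hs]
      simp [act, low, mul_comm]
  refine ⟨a, ha, fun g P x y hP e => ?_⟩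
  have : ∀ i : Bs p a, ∃ b, Φ b = mon ι a P i := fun i =>
    (R.trans (sp_eq ι ha hP).symm).ge (Submodule.subset_span ⟨i, rfl⟩)
  choose b hb using this
  refine ⟨basisOfTopLeSpanOfCardEqFinrank b ?_ ?_, fun i => inj (funext fun v => ?_)⟩
  · rw [← Submodule.map_le_map_iff_of_injective inj, Submodule.map_top, R, ← sp_eq ι ha hP,
      Submodule.map_span, ← Set.range_comp, Sp]
    exact Submodule.span_mono (by rintro _ ⟨i, rfl⟩; exact ⟨i, hb i⟩)
  · rw [← finrank_sp ι ha, ← R, LinearMap.finrank_range_of_inj inj]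
  · rw [coe_basisOfTopLeSpanOfCardEqFinrank, h3, map_smul, hb, hact, e]
    simp only [mon, mul_diagonal, Pi.smul_apply, smul_eq_mul, cons_val_zero, cons_val_one,
      ← mul_assoc, ← add_mul, mul_pow]
    ring

end H0.L2
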